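import Cfsg.Agent.Lib.Sporadic.LySub.Abc.Part0
import Cfsg.Agent.Lib.Sporadic.LySub.Abc.Part1

set_option autoImplicit false
set_option maxRecDepth 20000

/-! All checks (owner: helper25). -/

namespace CfsgLib.Sporadic.LySub.Abc
open CfsgLib.Recog.SporBound (Q)

open CfsgLib.Sporadic.PairEnum in
theorem steps_ok : cert.stepsPart cert.allRels 0 cert.stepChunks = true := by
  have h1 : cert.stepsPart cert.allRels 0 185 = true := cert.stepsPart_cat steps0 steps1 (by decide +kernel) (by decide +kernel)
  rw [show cert.stepChunks = 185 by decide +kernel]
  exact h1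

theorem defs_ok : CfsgLib.ThreeTrans.CosetIndex.forallFrom cert.defOK 0 cert.nd = true := by decide +kernel

theorem valid : cert.OK where
  base := by decide +kernel
  defs := defs_ok
  steps := steps_ok
  finals := by decide +kernel

end CfsgLib.Sporadic.LySub.Abc
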