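import Cfsg.Agent.Lib.Sporadic.LySub.Abc.Tree1

set_option autoImplicit false
set_option maxRecDepth 20000

/-! Generated certificate (owner: helper25). -/

namespace CfsgLib.Sporadic.LySub.Abc
open CfsgLib.Recog.SporBound (Q)

/-- The certificate. -/
noncomputable def cert : CfsgLib.Sporadic.PairEnum.Cert where
  n := 3125
  nd := 5040
  nf := 16832
  nl := 6
  kl := [0, 2, 4]
  facts := (.node (.node ft2 ft3 ft4 ft5) (.node ft7 ft8 ft9 ft10) (.node ft12 ft13 ft14 ft15) (.node ft17 ft18 ft19 ft20))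
  cn := (.node ct21 ct22 ct23 ct24)
  steps := (.node (.node (.node st25 st26 st27 st28) (.node st29 st30 st31 st32) (.node st33 st34 st35 st36) (.node st37 st38 st39 st40)) (.node (.node st41 st42 st43 st44) (.node st45 st46 st47 st48) (.node st49 st50 st51 st52) (.node st53 st54 st55 st56)) (.node (.node st57 st58 st59 st60) (.node st61 st62 st63 st64) (.node st65 st66 st67 st68) (.node st69 st70 st71 st72)) (.node (.node st73 st74 st75 st76) (.node st77 st78 st79 st80) (.node st81 st82 st83 st84) (.node st85 st86 st87 st88)))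
  finals := (.node (.node et91 et93 et95 et97) (.node et100 et102 et104 et106) (.node et108 et110 et112 et114) (.node et116 et118 et120 et122))
  rels := [[0, 0, 0, 0, 0, 0, 0, 0], [2, 2, 2, 2, 2], [0, 2, 0, 2, 0, 2, 0, 2], [1, 1, 3, 0, 0, 2], [1, 3, 0, 2, 1, 3, 0, 2, 1, 3, 0, 2], [4, 4, 4, 4, 4], [5, 1, 5, 0, 4, 1, 4, 0, 5, 1, 5, 0, 4, 1, 4, 0, 5, 1, 5, 0, 4, 1, 4, 0, 5, 1, 5, 0, 4, 1, 4, 0, 5, 1, 5, 0, 4, 1, 4, 0], [5, 1, 5, 0, 5, 1, 4, 0, 4, 1, 5, 0, 4, 1, 4, 0], [1, 5, 5, 0, 5, 1, 4, 0, 4, 1, 4, 0, 5, 1, 5, 0, 4, 1, 4, 0], [3, 5, 2, 1, 5, 0, 5, 1, 4, 0, 4, 3, 4, 2, 5, 1, 5, 0, 4, 1, 4, 0], [2, 5, 3, 1, 5, 0, 5, 1, 4, 0, 4, 2, 4, 3, 5, 1, 5, 0, 4, 1, 4, 0], [5, 3, 5, 2, 4, 3, 4, 2, 5, 1, 5, 0, 4, 1, 4, 0, 5, 1, 5, 0, 4, 1, 4, 0], [5, 2, 5, 3, 4, 2, 4, 3, 1, 5, 0, 5, 1, 4, 0, 4, 1, 5,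 0, 5, 1, 4, 0, 4], [1, 5, 0, 3, 5, 2, 1, 4, 0, 3, 4, 2, 5, 1, 5, 0, 4, 1, 4, 0], [1, 5, 0, 2, 5, 3, 1, 4, 0, 2, 4, 3], [3, 5, 2, 2, 5, 3, 3, 4, 2, 2, 4, 3, 5, 1, 5, 0, 4, 1, 4, 0], [1, 1, 4, 0, 0, 4, 4], [1, 3, 4, 2, 0, 2, 5, 3, 5, 3, 4, 4, 2], [1, 2, 4, 3, 0, 2, 5, 3, 5, 2, 5, 3, 3, 4, 2, 1, 4, 0, 5], [1, 5, 1, 5, 0, 4, 1, 4, 0, 5, 0, 5, 1, 4, 0, 4, 1, 5, 0, 5, 1, 4, 0, 4], [3, 1, 4, 0, 2, 2, 4, 3, 4, 2, 4, 3, 3, 5, 2, 1, 5, 0], [3, 3, 4, 2, 4, 4, 2, 2, 5, 3, 5, 5], [3, 5, 1, 5, 0, 4, 1, 4, 0, 2, 1, 5, 0, 5, 1, 4, 0, 4]]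
  subs := [[0], [2]]

end CfsgLib.Sporadic.LySub.Abc
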